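import Mathlib.GroupTheory.Nilpotent
import Mathlib.GroupTheory.PGroup
import Mathlib.GroupTheory.SpecificGroups.Cyclic
import Mathlib.Tactic

/-!
Soft subgroups: self-centralising abelian subgroups of index `p` in their normaliser.
-/

set_option autoImplicit false

namespace Cfsg.Agent.PGroupTower

open Subgroup
open scoped commutatorElement

universe u

variable {p : ℕ} [hp : Fact p.Prime] {P : Type u} [Group P] [Finite P]

/-- A soft subgroup. -/
structure IsSoft (p : ℕ) (E : Subgroup P) : Prop where
  comm : IsMulCommutative E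
  cent : centralizer (E : Set P) ≤ E
  rel : E.relIndex (normalizer (E : Set P)) = p

theorem eq_of_relIndex_prime {E L N : Subgroup P} (h1 : E ≤ L) (h2 : L ≤ N) (hne : ¬ L ≤ E)
    (hp' : E.relIndex N = p) : L = N := by
  refine le_antisymm h2 (relIndex_eq_one.1 ?_)
  have h := relIndex_mul_relIndex E L N h1 h2
  rw [hp'] at h
  rcases (Nat.dvd_prime hp.out).1 ⟨_, h.symm⟩ with h' | h'
  · exact absurd (relIndex_eq_one.1 h') hne
  · rw [h'] at h
    exact (mul_eq_left₀ hp.out.ne_zero).1 h

theorem IsSoft.center_le {E : Subgroup P} (hE : IsSoft p E) : center P ≤ E :=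
  (center_le_centralizer _).trans hE.cent

theorem IsSoft.not_normalizer_le {E : Subgroup P} (hE : IsSoft p E) :
    ¬ normalizer (E : Set P) ≤ E := fun h => by
  have := hE.rel
  rw [relIndex_eq_one.2 h] at this
  exact hp.out.ne_one this.symm

theorem IsSoft.sup_zpowers {E : Subgroup P} (hE : IsSoft p E) {x : P}
    (hx : x ∈ normalizer (E : Set P)) (hxE : x ∉ E) : E ⊔ zpowers x = normalizer (E : Set P) :=
  eq_of_relIndex_prime le_sup_left (sup_le le_normalizer (zpowers_le.2 hx))
    (fun h => hxE (h (mem_sup_right (mem_zpowers x)))) hE.rel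

/-- The normaliser acts on `E` trivially modulo the centre. -/
def CentralNormalizer (E : Subgroup P) : Prop :=
  ∀ n ∈ normalizer (E : Set P), ∀ e ∈ E, ⁅n, e⁆ ∈ center P

theorem centralNormalizer_of_mem {E : Subgroup P} (hE : IsSoft p E) {x : P}
    (hx : ∀ e ∈ E, ⁅x, e⁆ ∈ center P) (hxE : x ∉ E) : CentralNormalizer E := by
  have hxN : x ∈ normalizer (E : Set P) := by
    rw [mem_normalizer_iff_map_conj_eq]
    refine Subgroup.eq_of_le_of_card_ge ?_ (card_map_of_injective (MulAut.conj x).injective).ge
    rintro _ ⟨e, he, rfl⟩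
    show x * e * x⁻¹ ∈ E
    have h := E.mul_mem (hE.center_le (hx e he)) he
    rwa [commutatorElement_def, inv_mul_cancel_right] at h
  intro n hn e he
  have h : normalizer (E : Set P) ≤
      (centralizer (E.map (QuotientGroup.mk' (center P)) : Set (P ⧸ center P))).comap
        (QuotientGroup.mk' (center P)) := by
    rw [← hE.sup_zpowers hxN hxE]
    refine sup_le (fun a ha => ?_) (zpowers_le.2 ?_) <;> rw [mem_comap, mem_centralizer_iff] <;>
      rintro _ ⟨b, hb, rfl⟩
    · rw [← map_mul, ← map_mul]
      haveI := hE.comm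
      rw [show b * a = a * b from setLike_mul_comm (s := E) hb ha]
    · symm
      rw [← commutatorElement_eq_one_iff_mul_comm, ← map_commutatorElement, QuotientGroup.mk'_apply,
        QuotientGroup.eq_one_iff]
      exact hx b hb
  rw [← QuotientGroup.eq_one_iff, ← QuotientGroup.mk'_apply, map_commutatorElement,
    commutatorElement_eq_one_iff_mul_comm]
  exact (mem_centralizer_iff.1 (h hn) _ (mem_map_of_mem _ he)).symm

omit [Finite P] in
theorem comap_map_mk {E : Subgroup P} (h : center P ≤ E) :
    (E.map (QuotientGroup.mk' (center P))).comap (QuotientGroup.mk' (center P)) = E := by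
  rw [comap_map_eq, QuotientGroup.ker_mk', sup_eq_left.2 h]

theorem map_normalizer_mk {E : Subgroup P} (h : center P ≤ E) :
    normalizer (E.map (QuotientGroup.mk' (center P)) : Set (P ⧸ center P)) =
      (normalizer (E : Set P)).map (QuotientGroup.mk' (center P)) := by
  conv_lhs => rw [← map_comap_eq_self_of_surjective (QuotientGroup.mk'_surjective (center P))
    (normalizer (E.map (QuotientGroup.mk' (center P)) : Set (P ⧸ center P)))]
  rw [comap_normalizer_eq_of_surjective _ (QuotientGroup.mk'_surjective _), comap_map_mk h]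

theorem relIndex_map_mk {E L : Subgroup P} (h : center P ≤ E) :
    (E.map (QuotientGroup.mk' (center P))).relIndex (L.map (QuotientGroup.mk' (center P))) = E.relIndex L := by
  rw [← relIndex_comap, comap_map_mk h]

theorem index_map_mk {E : Subgroup P} (h : center P ≤ E) :
    (E.map (QuotientGroup.mk' (center P))).index = E.index := by
  rw [← index_comap_of_surjective _ (QuotientGroup.mk'_surjective (center P)), comap_map_mk h]

theorem mk_mul_comm_iff {x e : P} :
    QuotientGroup.mk' (center P) e * QuotientGroup.mk' (center P) x =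
      QuotientGroup.mk' (center P) x * QuotientGroup.mk' (center P) e ↔ ⁅x, e⁆ ∈ center P := by
  rw [eq_comm, ← commutatorElement_eq_one_iff_mul_comm, ← map_commutatorElement,
    QuotientGroup.mk'_apply, QuotientGroup.eq_one_iff]

/-- Without central action of the normaliser, softness passes to the quotient by the centre. -/
theorem IsSoft.quotient {E : Subgroup P} (hE : IsSoft p E) (hD : ¬ CentralNormalizer E) :
    IsSoft p (E.map (QuotientGroup.mk' (center P))) := by
  refine ⟨?_, ?_, ?_⟩
  · haveI := hE.comm
    infer_instance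
  · intro y hy
    obtain ⟨x, rfl⟩ := QuotientGroup.mk'_surjective (center P) y
    refine mem_map_of_mem _ ?_
    by_contra hxE
    exact hD (centralNormalizer_of_mem hE
      (fun e he => mk_mul_comm_iff.1 (mem_centralizer_iff.1 hy _ (mem_map_of_mem _ he))) hxE)
  · rw [map_normalizer_mk hE.center_le, relIndex_map_mk hE.center_le, hE.rel]

theorem IsSoft.index_normalizer {E : Subgroup P} (hE : IsSoft p E) :
    p * (normalizer (E : Set P)).index = E.index := by
  rw [← hE.rel]
  exact relIndex_mul_index le_normalizer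

theorem IsSoft.normalizer_ne_top {E : Subgroup P} (hE : IsSoft p E) (hidx : p ^ 2 ≤ E.index) :
    normalizer (E : Set P) ≠ ⊤ := fun h => by
  have h1 := hE.index_normalizer
  rw [h, index_top, mul_one] at h1
  rw [← h1, pow_two] at hidx
  have := hp.out.two_le
  nlinarith

/-- The normaliser of the normaliser has index `p` over it. -/
theorem IsSoft.relIndex_second (hP : IsPGroup p P) {E : Subgroup P} (hE : IsSoft p E)
    (hidx : p ^ 2 ≤ E.index) :
    (normalizer (E : Set P)).relIndex (normalizer (normalizer (E : Set P) : Set P)) = p := by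
  classical
  haveI := hP.isNilpotent
  haveI := hE.comm
  set N := normalizer (E : Set P) with hN
  set N₂ := normalizer (N : Set P) with hN₂
  have hlt : N < N₂ := normalizerCondition_of_isNilpotent N (hE.normalizer_ne_top hidx).lt_top
  have hEN : E ≤ N := le_normalizer
  obtain ⟨x, hxN, hxE⟩ := SetLike.not_le_iff_exists.1 hE.not_normalizer_le
  set Z₁ := N ⊓ centralizer (N : Set P) with hZ₁
  have hZE : Z₁ ≤ E := inf_le_right.trans ((centralizer_le hEN).trans hE.cent)
  -- conjugates of `E`
  have hconjle : ∀ g ∈ N₂, ∀ e ∈ E, g * e * g⁻¹ ∈ N := fun g hg e he =>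
    (mem_normalizer_iff.1 hg e).1 (hEN he)
  have hconjZ : ∀ g ∈ N₂, ∀ z ∈ Z₁, g * z * g⁻¹ ∈ Z₁ := by
    intro g hg z hz
    refine ⟨(mem_normalizer_iff.1 hg z).1 hz.1, mem_centralizer_iff.2 fun n hn => ?_⟩
    have hn' : g⁻¹ * n * g ∈ N := by
      have h := (mem_normalizer_iff.1 (inv_mem hg) n).1 hn
      rwa [inv_inv] at h
    have h := mem_centralizer_iff.1 hz.2 _ hn'
    have h' := congrArg (fun w => g * w * g⁻¹) h
    simpa [mul_assoc] using h'
  have hnorm_iff : ∀ g ∈ N₂, E.map (MulAut.conj g).toMonoidHom = E → g ∈ N := fun g _ h =>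
    mem_normalizer_iff_map_conj_eq.2 h
  have hE' : ∀ g ∈ N₂, Z₁ ≤ E.map (MulAut.conj g).toMonoidHom := by
    intro g hg z hz
    refine ⟨g⁻¹ * z * g, hZE ?_, by simp [mul_assoc]⟩
    have h := hconjZ _ (inv_mem hg) z hz
    rwa [inv_inv] at h
  obtain ⟨g₀, hg₀, hg₀N⟩ := SetLike.not_le_iff_exists.1 hlt.not_ge
  set F := E.map (MulAut.conj g₀).toMonoidHom with hF
  have hFN : F ≤ N := by
    rintro _ ⟨e, he, rfl⟩
    exact hconjle g₀ hg₀ e he
  have hFE : F ≠ E := fun h => hg₀N (hnorm_iff g₀ hg₀ h)
  obtain ⟨w, hwF, hwE⟩ : ∃ w ∈ F, w ∉ E := by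
    by_contra hall
    push Not at hall
    exact hFE (Subgroup.eq_of_le_of_card_ge hall (card_map_of_injective (MulAut.conj g₀).injective).ge)
  have hsup : E ⊔ zpowers w = N := hE.sup_zpowers (hFN hwF) hwE
  have hEF : E ⊓ F ≤ Z₁ := by
    intro z hz
    refine ⟨hEN hz.1, mem_centralizer_iff.2 ?_⟩
    have h : N ≤ centralizer ({z} : Set P) := by
      rw [← hsup]
      refine sup_le (fun e he => mem_centralizer_singleton_iff.2 (setLike_mul_comm (s := E) he hz.1))
        (zpowers_le.2 (mem_centralizer_singleton_iff.2 ?_))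
      haveI : IsMulCommutative F := inferInstance
      exact setLike_mul_comm (s := F) hwF hz.2
    exact fun n hn => mem_centralizer_singleton_iff.1 (h hn)
  have hxp : ∀ a ∈ N, a ^ p ∈ E := by
    intro a ha
    haveI : (E.subgroupOf N).Normal := normal_in_normalizer
    have h := pow_card_eq_one' (x := (QuotientGroup.mk (⟨a, ha⟩ : N) : N ⧸ E.subgroupOf N))
    rw [← index_eq_card, show (E.subgroupOf N).index = p from hE.rel, ← QuotientGroup.mk_pow,
      QuotientGroup.eq_one_iff] at h
    exact mem_subgroupOf.1 h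
  have hmemN : ∀ a ∈ N, ∃ e ∈ E, ∃ j : ℤ, a = e * x ^ j := by
    intro a ha
    rw [show N = E ⊔ zpowers x from (hE.sup_zpowers hxN hxE).symm] at ha
    haveI : (E.subgroupOf N).Normal := normal_in_normalizer
    obtain ⟨e, he, z, hz, rfl⟩ := Set.mem_mul.1 ((Set.ext_iff.1 (coe_mul_of_right_le_normalizer_left E (zpowers x) (zpowers_le.2 hxN)) a).1 ha)
    obtain ⟨j, rfl⟩ := mem_zpowers_iff.1 hz
    exact ⟨e, he, j, rfl⟩
  -- `E` modulo `Z₁` has order `p`
  obtain ⟨e₀, he₀, he₀Z⟩ : ∃ e ∈ E, e ∉ Z₁ := by
    by_contra hall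
    push Not at hall
    refine hE.not_normalizer_le fun n hn => hE.cent (mem_centralizer_iff.2 fun e he => ?_)
    exact (mem_centralizer_iff.1 (hall e he).2 n hn).symm
  have hrel : Z₁.relIndex E = p := by
    have h1 : F.relIndex N = p := by
      have hNmap : N.map (MulAut.conj g₀).toMonoidHom = N := mem_normalizer_iff_map_conj_eq.1 hg₀
      conv_lhs => rw [← hNmap]
      rw [hF, relIndex_map_map_of_injective _ _ (MulAut.conj g₀).injective, hE.rel]
    have h2 : (E ⊓ F).relIndex E ≤ p := by
      rw [inf_relIndex_left, ← h1]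
      refine relIndex_le_of_le_right hEN ?_
      rw [h1]; exact hp.out.ne_zero
    have h3 : Z₁ = E ⊓ F := le_antisymm (le_inf hZE (hE' g₀ hg₀)) hEF
    obtain ⟨j, hj⟩ := (hP.to_subgroup E).index (Z₁.subgroupOf E)
    change Z₁.relIndex E = p ^ j at hj
    rw [← h3, hj] at h2
    have hj1 : j ≤ 1 := by
      rwa [← Nat.pow_le_pow_iff_right hp.out.one_lt, pow_one]
    rcases Nat.eq_zero_or_pos j with rfl | hj0
    · rw [pow_zero, relIndex_eq_one] at hj
      exact absurd (hj he₀) he₀Z
    · rw [hj, show j = 1 by omega, pow_one]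
  have hmemE : ∀ a ∈ E, ∃ z ∈ Z₁, ∃ j : ℕ, a = z * e₀ ^ j := by
    intro a ha
    have hL : Z₁ ⊔ zpowers e₀ = E := eq_of_relIndex_prime le_sup_left (sup_le hZE (zpowers_le.2 he₀))
      (fun h => he₀Z (h (mem_sup_right (mem_zpowers e₀)))) hrel
    rw [← hL] at ha
    obtain ⟨z, hz, w, hw, rfl⟩ := Set.mem_mul.1 ((Set.ext_iff.1 (coe_mul_of_right_le_normalizer_left Z₁ (zpowers e₀) (zpowers_le.2 (mem_normalizer_iff.2 fun z => ⟨fun hz => by rwa [setLike_mul_comm (s := E) he₀ (hZE hz), mul_inv_cancel_right], fun hz => by
      have hzE : z ∈ E := by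
        have := E.mul_mem (E.mul_mem (E.inv_mem he₀) (hZE hz)) he₀
        simpa [mul_assoc] using this
      rwa [setLike_mul_comm (s := E) he₀ hzE, mul_inv_cancel_right] at hz⟩))) a).1 ha)
    obtain ⟨j, rfl⟩ := (isOfFinOrder_of_finite e₀).mem_powers_iff_mem_zpowers.2 hw
    exact ⟨z, hz, j, rfl⟩
  -- at most `p + 1` conjugates
  have hle : N.relIndex N₂ ≤ p + 1 := by
    let line : Option (Fin p) → Subgroup P := fun o =>
      match o with
      | none => E
      | some a => Z₁ ⊔ zpowers (e₀ ^ (a : ℕ) * x)
    have hcover : ∀ g ∈ N₂, ∃ o, line o = E.map (MulAut.conj g).toMonoidHom := by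
      intro g hg
      set L := E.map (MulAut.conj g).toMonoidHom with hL
      by_cases hgN : g ∈ N
      · exact ⟨none, (mem_normalizer_iff_map_conj_eq.1 hgN).symm⟩
      have hLN : L ≤ N := by
        rintro _ ⟨e, he, rfl⟩
        exact hconjle g hg e he
      obtain ⟨v, hvL, hvE⟩ : ∃ v ∈ L, v ∉ E := by
        by_contra hall
        push Not at hall
        exact hgN (hnorm_iff g hg
          (Subgroup.eq_of_le_of_card_ge hall (card_map_of_injective (MulAut.conj g).injective).ge))
      obtain ⟨e, he, j, rfl⟩ := hmemN v (hLN hvL)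
      have hj : ¬ (p : ℤ) ∣ j := fun ⟨c, hc⟩ => hvE (by
        rw [hc, zpow_mul, zpow_natCast]
        exact mul_mem he (zpow_mem (hxp x hxN) c))
      obtain ⟨r, s, hrs⟩ := ((Nat.prime_iff_prime_int.mp hp.out).coprime_iff_not_dvd).mpr hj
      -- a representative of the form `e' * x`
      obtain ⟨e', he', hv'⟩ : ∃ e' ∈ E, e' * x ∈ L := by
        haveI : (E.subgroupOf N).Normal := normal_in_normalizer
        refine ⟨(e * x ^ j) ^ s * x⁻¹, ?_, by rw [inv_mul_cancel_right]; exact zpow_mem hvL s⟩
        have h1 : (⟨(e * x ^ j) ^ s * x⁻¹, mul_mem (zpow_mem (hLN hvL) s) (inv_mem hxN)⟩ : N) ∈ E.subgroupOf N := by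
          rw [← QuotientGroup.eq_one_iff]
          let π := QuotientGroup.mk' (E.subgroupOf N)
          show π ((⟨e, hEN he⟩ * (⟨x, hxN⟩ : N) ^ j) ^ s * (⟨x, hxN⟩ : N)⁻¹) = 1
          have hπe : π ⟨e, hEN he⟩ = 1 := (QuotientGroup.eq_one_iff _).2 (mem_subgroupOf.2 he)
          have hπp : π (⟨x, hxN⟩ : N) ^ (p : ℤ) = 1 := by
            rw [zpow_natCast, ← map_pow]
            exact (QuotientGroup.eq_one_iff _).2 (mem_subgroupOf.2 (hxp x hxN))
          rw [map_mul, map_zpow, map_mul, hπe, one_mul, map_zpow, map_inv, ← zpow_mul, ← zpow_neg_one,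
            ← zpow_add, show j * s + -1 = (p : ℤ) * (-r) by linear_combination hrs, zpow_mul, hπp, one_zpow]
        exact mem_subgroupOf.1 h1
      obtain ⟨z, hz, a, rfl⟩ := hmemE e' he'
      have hev : e₀ ^ a * x ∈ L := by
        have h := L.mul_mem (L.inv_mem (hE' g hg hz)) hv'
        rwa [mul_assoc z, inv_mul_cancel_left] at h
      have hper : e₀ ^ (a % p) * x ∈ L := by
        have hp0 : e₀ ^ p ∈ Z₁ := by
          haveI : (Z₁.subgroupOf E).Normal := by
            letI : CommGroup E := { (inferInstance : Group E) with mul_comm := fun a b => Subtype.ext (setLike_mul_comm (s := E) a.2 b.2) }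
            exact ⟨fun n hn g => by rwa [mul_comm g n, mul_inv_cancel_right]⟩
          have h := pow_card_eq_one' (x := (QuotientGroup.mk (⟨e₀, he₀⟩ : E) : E ⧸ Z₁.subgroupOf E))
          rw [← index_eq_card, show (Z₁.subgroupOf E).index = p from hrel, ← QuotientGroup.mk_pow,
            QuotientGroup.eq_one_iff] at h
          exact mem_subgroupOf.1 h
        have h := L.mul_mem (L.inv_mem (hE' g hg (pow_mem hp0 (a / p)))) hev
        rw [← pow_mul] at h
        rwa [show (e₀ ^ (p * (a / p)))⁻¹ * (e₀ ^ a * x) = e₀ ^ (a % p) * x by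
          rw [← mul_assoc]
          congr 1
          rw [inv_mul_eq_iff_eq_mul, ← pow_add, Nat.div_add_mod]] at h
      refine ⟨some ⟨a % p, Nat.mod_lt _ hp.out.pos⟩, ?_⟩
      refine eq_of_relIndex_prime (p := p) (E := Z₁) le_sup_left (sup_le (hE' g hg) (zpowers_le.2 hper)) (fun h => ?_) ?_
      · have h' : e₀ ^ (a % p) * x ∈ E := hZE (h (mem_sup_right (mem_zpowers _)))
        exact hxE ((mul_mem_cancel_left (pow_mem he₀ _)).1 h')
      · have hmapZ : Z₁.map (MulAut.conj g).toMonoidHom = Z₁ := by
          refine Subgroup.eq_of_le_of_card_ge ?_ (card_map_of_injective (MulAut.conj g).injective).ge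
          rintro _ ⟨z, hz, rfl⟩
          exact hconjZ g hg z hz
        conv_lhs => rw [← hmapZ]
        rw [relIndex_map_map_of_injective _ _ (MulAut.conj g).injective, hrel]
    let conjE : N₂ ⧸ N.subgroupOf N₂ → Option (Fin p) := fun q => (hcover _ q.out.2).choose
    have hinj : Function.Injective conjE := by
      intro q q' h
      have h1 := (hcover _ q.out.2).choose_spec
      have h2 := (hcover _ q'.out.2).choose_spec
      change line (conjE q) = _ at h1
      change line (conjE q') = _ at h2
      rw [h, h2] at h1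
      rw [← q.out_eq, ← q'.out_eq]
      refine QuotientGroup.eq.2 (mem_subgroupOf.2 ?_)
      refine hnorm_iff _ (mul_mem (inv_mem q.out.2) q'.out.2) ?_
      push_cast
      rw [show (MulAut.conj ((q.out : P)⁻¹ * (q'.out : P))).toMonoidHom =
        (MulAut.conj (q.out : P)⁻¹).toMonoidHom.comp (MulAut.conj (q'.out : P)).toMonoidHom from
          MonoidHom.ext fun a => by simp [mul_assoc], ← Subgroup.map_map, h1, Subgroup.map_map]
      convert Subgroup.map_id E
      exact MonoidHom.ext fun a => by simp [mul_assoc]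
    have h := Nat.card_le_card_of_injective conjE hinj
    rw [show Nat.card (Option (Fin p)) = p + 1 by simp] at h
    exact h
  obtain ⟨j, hj⟩ := (hP.to_subgroup N₂).index (N.subgroupOf N₂)
  change N.relIndex N₂ = p ^ j at hj
  rw [hj] at hle
  rcases j with _ | _ | j
  · rw [pow_zero, relIndex_eq_one] at hj
    exact absurd hj hlt.not_ge
  · rw [hj, pow_one]
  · exfalso
    have h1 : p ^ 2 ≤ p ^ (j + 1 + 1) := Nat.pow_le_pow_right hp.out.pos (by omega)
    have := hp.out.two_le
    rw [pow_two] at h1
    nlinarith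

/-- With central action of the normaliser, the normaliser becomes soft modulo the centre. -/
theorem IsSoft.quotient_normalizer (hP : IsPGroup p P) {E : Subgroup P} (hE : IsSoft p E)
    (hD : CentralNormalizer E) (hidx : p ^ 2 ≤ E.index) :
    IsSoft p ((normalizer (E : Set P)).map (QuotientGroup.mk' (center P))) := by
  haveI := hE.comm
  set f := QuotientGroup.mk' (center P) with hf
  set N := normalizer (E : Set P) with hN
  obtain ⟨x, hxN, hxE⟩ := SetLike.not_le_iff_exists.1 hE.not_normalizer_le
  have hZN : center P ≤ N := hE.center_le.trans le_normalizer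
  refine ⟨?_, ?_, ?_⟩
  · refine IsMulCommutative.of_setLike_mul_comm ?_
    rintro _ ⟨a, ha, rfl⟩ _ ⟨b, hb, rfl⟩
    have h1 : N ≤ (centralizer ({f b} : Set (P ⧸ center P))).comap f := by
      rw [hN, ← hE.sup_zpowers hxN hxE]
      have hE1 : E ≤ (centralizer ({f b} : Set (P ⧸ center P))).comap f := fun e he => by
        rw [mem_comap, mem_centralizer_singleton_iff]
        exact mk_mul_comm_iff.2 (hD b hb e he)
      refine sup_le hE1 (zpowers_le.2 ?_)
      rw [mem_comap, mem_centralizer_singleton_iff]
      have h2 : N ≤ (centralizer ({f x} : Set (P ⧸ center P))).comap f := by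
        rw [hN, ← hE.sup_zpowers hxN hxE]
        refine sup_le (fun e he => ?_) (zpowers_le.2 ?_)
        · rw [mem_comap, mem_centralizer_singleton_iff]
          exact mk_mul_comm_iff.2 (hD x hxN e he)
        · rw [mem_comap, mem_centralizer_singleton_iff]
      exact (mem_centralizer_singleton_iff.1 (h2 hb)).symm
    exact mem_centralizer_singleton_iff.1 (h1 ha)
  · intro y hy
    obtain ⟨a, rfl⟩ := QuotientGroup.mk'_surjective (center P) y
    refine mem_map_of_mem _ ?_
    by_cases haE : a ∈ E
    · exact le_normalizer haE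
    rw [hN, mem_normalizer_iff_map_conj_eq]
    refine Subgroup.eq_of_le_of_card_ge ?_ (card_map_of_injective (MulAut.conj a).injective).ge
    rintro _ ⟨e, he, rfl⟩
    show a * e * a⁻¹ ∈ E
    have h := E.mul_mem (hE.center_le (mk_mul_comm_iff.1
      (mem_centralizer_iff.1 hy _ (mem_map_of_mem _ (le_normalizer he))))) he
    rwa [commutatorElement_def, inv_mul_cancel_right] at h
  · rw [map_normalizer_mk hZN, relIndex_map_mk hZN, hE.relIndex_second hP hidx]

/-- The subgroups above a soft subgroup form a chain, with steps of index `p`. -/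
theorem tower : ∀ (n : ℕ) (P : Type u) [Group P] [Finite P], IsPGroup p P → Nat.card P = n →
    ∀ E : Subgroup P, IsSoft p E → p ^ 2 ≤ E.index →
      (∀ K L : Subgroup P, E ≤ K → E ≤ L → K ≤ L ∨ L ≤ K) ∧
      ∀ K : Subgroup P, E ≤ K → K ≠ ⊤ → K.relIndex (normalizer (K : Set P)) = p := by
  intro n
  induction n using Nat.strong_induction_on with
  | _ n ih =>
  intro P _ _ hP hn E hE hidx
  haveI := hP.isNilpotent
  haveI : Nontrivial P := by
    by_contra h
    rw [not_nontrivial_iff_subsingleton] at h
    exact hE.not_normalizer_le fun x _ => by rw [Subsingleton.elim x 1]; exact E.one_mem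
  have hlt : Nat.card (P ⧸ center P) < n := by
    have := hP.center_nontrivial
    rw [← hn, card_eq_card_quotient_mul_card_subgroup (center P)]
    exact lt_mul_of_one_lt_right Nat.card_pos Finite.one_lt_card
  set f := QuotientGroup.mk' (center P) with hf
  set N := normalizer (E : Set P) with hN
  have habove : ∀ K : Subgroup P, E ≤ K → K ≠ E → N ≤ K := fun K hEK hne => by
    have h1 : E.subgroupOf K < normalizer (E.subgroupOf K : Set K) := by
      refine normalizerCondition_of_isNilpotent _ (lt_top_iff_ne_top.2 fun h => hne ?_)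
      exact le_antisymm (subgroupOf_eq_top.1 h) hEK
    obtain ⟨y, hy, hyE⟩ := SetLike.not_le_iff_exists.1 h1.not_ge
    have hyN : (y : P) ∈ N := by
      rw [hN, mem_normalizer_iff_map_conj_eq]
      refine Subgroup.eq_of_le_of_card_ge ?_ (card_map_of_injective (MulAut.conj (y : P)).injective).ge
      rintro _ ⟨e, he, rfl⟩
      exact (mem_normalizer_iff.1 hy ⟨e, hEK he⟩).1 he
    rw [hN, ← hE.sup_zpowers hyN hyE]
    exact sup_le hEK (zpowers_le.2 y.2)
  have lift : ∀ (F : Subgroup (P ⧸ center P)) (A : Subgroup P), center P ≤ A → F = A.map f →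
      ((∀ K L : Subgroup (P ⧸ center P), F ≤ K → F ≤ L → K ≤ L ∨ L ≤ K) ∧
        ∀ K : Subgroup (P ⧸ center P), F ≤ K → K ≠ ⊤ → K.relIndex (normalizer (K : Set (P ⧸ center P))) = p) →
      (∀ K L : Subgroup P, A ≤ K → A ≤ L → K ≤ L ∨ L ≤ K) ∧
        ∀ K : Subgroup P, A ≤ K → K ≠ ⊤ → K.relIndex (normalizer (K : Set P)) = p := by
    rintro F A hZA rfl ⟨h1, h2⟩
    refine ⟨fun K L hK hL => ?_, fun K hK hK' => ?_⟩
    · rcases h1 (K.map f) (L.map f) (map_mono hK) (map_mono hL) with h | h
      · left
        rw [← comap_map_mk (hZA.trans hK), ← comap_map_mk (hZA.trans hL)]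
        exact comap_mono h
      · right
        rw [← comap_map_mk (hZA.trans hK), ← comap_map_mk (hZA.trans hL)]
        exact comap_mono h
    · have h := h2 (K.map f) (map_mono hK) (fun h => hK' ?_)
      · rwa [map_normalizer_mk (hZA.trans hK), relIndex_map_mk (hZA.trans hK)] at h
      · rw [← comap_map_mk (hZA.trans hK), h, comap_top]
  by_cases hD : CentralNormalizer E
  swap
  · exact lift _ E hE.center_le rfl (ih _ hlt _ (hP.to_quotient _) rfl _ (hE.quotient hD)
      (by rwa [index_map_mk hE.center_le]))
  have hZN : center P ≤ N := hE.center_le.trans le_normalizer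
  have key : (∀ K L : Subgroup P, N ≤ K → N ≤ L → K ≤ L ∨ L ≤ K) ∧
      ∀ K : Subgroup P, N ≤ K → K ≠ ⊤ → K.relIndex (normalizer (K : Set P)) = p := by
    by_cases h2 : p ^ 2 ≤ N.index
    · exact lift _ N hZN rfl (ih _ hlt _ (hP.to_quotient _) rfl _ (hE.quotient_normalizer hP hD hidx)
        (by rwa [index_map_mk hZN]))
    · have hNi : N.index = p := by
        obtain ⟨j, hj⟩ := hP.index N
        rcases j with _ | _ | j
        · rw [pow_zero, index_eq_one] at hj
          exact absurd hj (hE.normalizer_ne_top hidx)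
        · rw [hj, pow_one]
        · exact absurd (hj ▸ Nat.pow_le_pow_right hp.out.pos (by omega)) h2
      have hcases : ∀ K : Subgroup P, N ≤ K → K = N ∨ K = ⊤ := fun K hK => by
        by_cases hne : K ≤ N
        · exact Or.inl (le_antisymm hne hK)
        · exact Or.inr (eq_of_relIndex_prime hK le_top hne (by rw [relIndex_top_right, hNi]))
      refine ⟨fun K L hK hL => ?_, fun K hK hK' => ?_⟩
      · rcases hcases K hK with rfl | rfl
        · exact Or.inl hL
        · exact Or.inr le_top
      · obtain rfl := (hcases K hK).resolve_right hK'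
        have h := normalizerCondition_of_isNilpotent N hK'.lt_top
        rw [(hcases _ le_normalizer).resolve_left h.ne', relIndex_top_right, hNi]
  refine ⟨fun K L hK hL => ?_, fun K hK hK' => ?_⟩
  · by_cases hKE : K = E
    · exact Or.inl (hKE ▸ hL)
    by_cases hLE : L = E
    · exact Or.inr (hLE ▸ hK)
    exact key.1 K L (habove K hK hKE) (habove L hL hLE)
  · by_cases hKE : K = E
    · rw [hKE]; exact hE.rel
    · exact key.2 K (habove K hK hKE) hK'

omit [Finite P] in
theorem nilpotencyClass_le_one_of_center_eq_top [Group.IsNilpotent P] (h : center P = ⊤) :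
    Group.nilpotencyClass P ≤ 1 := by
  rw [← Subgroup.upperCentralSeries_eq_top_iff_nilpotencyClass_le, Subgroup.upperCentralSeries_one, h]

/-- Two soft subgroups exchanged by an automorphism and generating the group bound its class. -/
theorem class_le : ∀ (i : ℕ) (M : Type u) [Group M] [Finite M] [Group.IsNilpotent M], IsPGroup p M →
    ∀ (E : Subgroup M) (α : M ≃* M), IsSoft p E → 1 ≤ i → E.index = p ^ i →
      E ⊔ E.map α.toMonoidHom = ⊤ → Group.nilpotencyClass M ≤ i + 1 := by
  intro i
  induction i with
  | zero => intro M _ _ _ _ E α _ h; omega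
  | succ i ih =>
    intro M _ _ _ hM E α hE _ hi hgen
    haveI := hE.comm
    set F := E.map α.toMonoidHom with hF
    have hFsoft : IsSoft p F := by
      have hN : normalizer (F : Set M) = (normalizer (E : Set M)).map α.toMonoidHom :=
        (map_equiv_normalizer_eq E α).symm
      refine ⟨inferInstance, fun y hy => ?_, ?_⟩
      · obtain ⟨x, rfl⟩ := α.surjective y
        refine mem_map_of_mem _ (hE.cent (mem_centralizer_iff.2 fun e he => ?_))
        apply α.injective
        rw [map_mul, map_mul]
        exact mem_centralizer_iff.1 hy _ (mem_map_of_mem α.toMonoidHom he)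
      · rw [hN, hF, relIndex_map_map_of_injective _ _ α.injective, hE.rel]
    haveI := hFsoft.comm
    have hcen : E ⊓ F ≤ center M := by
      intro z hz
      rw [mem_center_iff]
      have h : ⊤ ≤ centralizer ({z} : Set M) := by
        rw [← hgen]
        exact sup_le (fun e he => mem_centralizer_singleton_iff.2 (setLike_mul_comm (s := E) he hz.1))
          (fun e he => mem_centralizer_singleton_iff.2 (setLike_mul_comm (s := F) he hz.2))
      exact fun g => mem_centralizer_singleton_iff.1 (h (mem_top g))
    have hquot : Group.nilpotencyClass (M ⧸ center M) ≤ i + 1 → Group.nilpotencyClass M ≤ i + 1 + 1 := by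
      rw [nilpotencyClass_quotient_center]
      omega
    rcases Nat.eq_zero_or_pos i with rfl | hi0
    · rw [pow_one] at hi
      have hnorm : ∀ A : Subgroup M, A.index = p → commutator M ≤ A := fun A hA => by
        haveI : A.Normal := normalizer_eq_top_iff.1 (by
          have hlt : A < normalizer (A : Set M) := normalizerCondition_of_isNilpotent A
            (lt_top_iff_ne_top.2 fun h => hp.out.ne_one (by rw [← hA, h, index_top]))
          exact eq_of_relIndex_prime le_normalizer le_top hlt.not_ge (by rw [relIndex_top_right, hA]))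
        haveI : IsCyclic (M ⧸ A) := isCyclic_of_prime_card (p := p) (by rw [← index_eq_card, hA])
        exact Normal.quotient_commutative_iff_commutator_le.1 IsCyclic.isMulCommutative
      have hFi : F.index = p := by
        rw [hF, show α.toMonoidHom = (α : M →* M) from rfl, index_map_equiv, hi]
      have hab : center (M ⧸ center M) = ⊤ := by
        haveI := Normal.quotient_commutative_iff_commutator_le.2
          ((le_inf (hnorm E hi) (hnorm F hFi)).trans hcen)
        exact eq_top_iff.2 fun a _ => mem_center_iff.2 fun b => IsMulCommutative.is_comm.comm b a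
      exact hquot (nilpotencyClass_le_one_of_center_eq_top hab)
    have hidx : p ^ 2 ≤ E.index := by rw [hi]; exact Nat.pow_le_pow_right hp.out.pos (by omega)
    have htrans : CentralNormalizer F → CentralNormalizer E := fun h n hn e he => by
      have h1 := h (α n) ((map_equiv_normalizer_eq E α).le (mem_map_of_mem α.toMonoidHom hn)) (α e)
        (mem_map_of_mem α.toMonoidHom he)
      rw [← map_commutatorElement, mem_center_iff] at h1
      refine mem_center_iff.2 fun g => α.injective ?_
      rw [map_mul, map_mul]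
      exact h1 (α g)
    have hZtop : center M ≠ ⊤ := fun h => by
      have : E = ⊤ := top_unique (h ▸ hE.center_le)
      rw [this, index_top] at hidx
      exact absurd hidx (Nat.not_le.2 (Nat.one_lt_pow (by norm_num) hp.out.one_lt))
    have hD : CentralNormalizer E := by
      haveI : Nontrivial (M ⧸ center M) := QuotientGroup.nontrivial_iff.2 hZtop
      haveI := (hM.to_quotient (center M)).center_nontrivial
      obtain ⟨⟨y, hy⟩, hy1⟩ := exists_ne (1 : center (M ⧸ center M))
      obtain ⟨x, rfl⟩ := QuotientGroup.mk'_surjective (center M) y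
      have hx : ∀ e : M, ⁅x, e⁆ ∈ center M := fun e => mk_mul_comm_iff.1 (mem_center_iff.1 hy _)
      by_cases hxE : x ∈ E
      · refine htrans (centralNormalizer_of_mem hFsoft (fun e _ => hx e) fun hxF => hy1 (Subtype.ext ?_))
        exact (QuotientGroup.eq_one_iff x).2 (hcen ⟨hxE, hxF⟩)
      · exact centralNormalizer_of_mem hE (fun e _ => hx e) hxE
    have hZN : center M ≤ normalizer (E : Set M) := hE.center_le.trans le_normalizer
    have hcenmap : (center M).map α.toMonoidHom = center M :=
      characteristic_iff_map_eq.mp inferInstance α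
    let β : M ⧸ center M ≃* M ⧸ center M := QuotientGroup.congr (center M) (center M) α hcenmap
    refine hquot (ih (M ⧸ center M) (hM.to_quotient _) _ β (hE.quotient_normalizer hM hD hidx) hi0 ?_ ?_)
    · rw [index_map_mk hZN]
      have h := hE.index_normalizer
      rw [hi, pow_succ'] at h
      exact mul_left_cancel₀ hp.out.ne_zero h
    · rw [Subgroup.map_map, show β.toMonoidHom.comp (QuotientGroup.mk' (center M)) =
        (QuotientGroup.mk' (center M)).comp α.toMonoidHom from MonoidHom.ext fun a => rfl,
        ← Subgroup.map_map, ← Subgroup.map_sup]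
      refine top_unique ((map_top_of_surjective _ (QuotientGroup.mk'_surjective (center M))).ge.trans (map_mono ?_))
      rw [← hgen]
      exact sup_le_sup le_normalizer (map_mono le_normalizer)

/-- The class of the proper subgroups in the tower. -/
theorem tower_class (hP : IsPGroup p P) {E : Subgroup P} (hE : IsSoft p E) (hidx : p ^ 2 ≤ E.index)
    {i : ℕ} {K : Subgroup P} [Group.IsNilpotent K] (hEK : E ≤ K) (hK : K ≠ ⊤)
    (hi : K.index * p ^ i = E.index) : Group.nilpotencyClass K = i + 1 := by
  haveI := hP.isNilpotent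
  haveI := hE.comm
  obtain ⟨hchain, hstep⟩ := tower _ P hP rfl E hE hidx
  have hrel : E.relIndex K = p ^ i := by
    have h := relIndex_mul_index hEK
    rw [← hi, mul_comm] at h
    exact mul_left_cancel₀ index_ne_zero_of_finite h
  rcases Nat.eq_zero_or_pos i with rfl | hi0
  · rw [pow_zero, relIndex_eq_one] at hrel
    obtain rfl := le_antisymm hrel hEK
    haveI : Nontrivial K := by
      by_contra h
      rw [not_nontrivial_iff_subsingleton] at h
      have hbot : K = ⊥ := eq_bot_of_subsingleton K
      exact hK (top_unique fun x _ => hE.cent (mem_centralizer_iff.2 fun a ha => by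
        rw [hbot, SetLike.mem_coe, mem_bot] at ha
        rw [ha, one_mul, mul_one]))
    refine le_antisymm (nilpotencyClass_le_one_of_center_eq_top
      (eq_top_iff.2 fun a _ => mem_center_iff.2 fun b => IsMulCommutative.is_comm.comm b a)) ?_
    by_contra h
    exact not_subsingleton K (nilpotencyClass_zero_iff_subsingleton.1 (by omega))
  have hlt : E < K := lt_of_le_of_ne hEK fun h => by
    rw [h, relIndex_self] at hrel
    exact (Nat.one_lt_pow hi0.ne' hp.out.one_lt).ne hrel
  -- the maximal subgroup of `K` above `E`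
  obtain ⟨A, hEA, hAmax⟩ := (Set.toFinite {A : Subgroup P | E ≤ A ∧ A < K}).exists_le_maximal
    (show E ∈ {A : Subgroup P | E ≤ A ∧ A < K} from ⟨le_rfl, hlt⟩)
  have hAK : A < K := hAmax.1.2
  have hbelow : ∀ L : Subgroup P, E ≤ L → L < K → L ≤ A := fun L hL hLK => by
    rcases hchain L A hL hEA with h | h
    · exact h
    · exact hAmax.2 ⟨hL, hLK⟩ h
  have hAN : normalizer (A : Set P) = K := by
    have hA : A < normalizer (A : Set P) :=
      normalizerCondition_of_isNilpotent A (lt_of_lt_of_le hAK le_top)
    rcases hchain (normalizer (A : Set P)) K (hEA.trans le_normalizer) hEK with h | h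
    · exact (eq_or_lt_of_le h).resolve_right fun h' => hA.not_ge (hbelow _ (hEA.trans le_normalizer) h')
    · exact (eq_of_relIndex_prime hAK.le h hAK.not_ge (hstep A hEA (hAK.trans_le le_top).ne)).symm
  obtain ⟨y, hy, hyK⟩ := SetLike.not_le_iff_exists.1
    (normalizerCondition_of_isNilpotent K hK.lt_top).not_ge
  let α : K ≃* K := K.normalizerMonoidHom ⟨y, hy⟩
  have hgen : E.subgroupOf K ⊔ (E.subgroupOf K).map α.toMonoidHom = ⊤ := by
    by_contra hne
    set T := E.subgroupOf K ⊔ (E.subgroupOf K).map α.toMonoidHom with hT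
    have hTA : T.map K.subtype ≤ A := by
      refine hbelow _ (fun e he => ⟨⟨e, hEK he⟩, mem_sup_left (mem_subgroupOf.2 he), rfl⟩) ?_
      refine lt_of_le_of_ne (map_subtype_le _) fun h => hne ?_
      apply map_injective K.subtype_injective
      rw [h, ← MonoidHom.range_eq_map, K.range_subtype]
    have hA' : E ≤ A.comap (MulAut.conj y).toMonoidHom := fun e he => by
      refine hTA ⟨α ⟨e, hEK he⟩, mem_sup_right (mem_map_of_mem α.toMonoidHom (mem_subgroupOf.2 he)), rfl⟩
    have hle : A.comap (MulAut.conj y).toMonoidHom ≤ A := by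
      refine hbelow _ hA' (lt_of_le_of_ne (fun a ha => (mem_normalizer_iff.1 hy a).2 (hAK.le ha)) fun h => ?_)
      have hc : Nat.card (A.comap (MulAut.conj y).toMonoidHom) = Nat.card A := by
        rw [comap_equiv_eq_map_symm', card_map_of_injective (MulEquiv.injective _)]
      rw [h] at hc
      exact hAK.ne (Subgroup.eq_of_le_of_card_ge hAK.le hc.le)
    have heq : A.comap (MulAut.conj y).toMonoidHom = A := Subgroup.eq_of_le_of_card_ge hle (by
      rw [comap_equiv_eq_map_symm', card_map_of_injective (MulEquiv.injective _)])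
    refine hyK (hAN ▸ mem_normalizer_iff_map_conj_eq.2 ?_)
    conv_lhs => rw [← heq]
    exact map_comap_eq_self_of_surjective (MulAut.conj y).surjective A
  have hEc : centralizer (E.subgroupOf K : Set K) ≤ E.subgroupOf K := fun z hz => by
    refine mem_subgroupOf.2 (hE.cent (mem_centralizer_iff.2 fun e he => ?_))
    exact congrArg Subtype.val (mem_centralizer_iff.1 hz ⟨e, hEK he⟩ (mem_subgroupOf.2 he))
  have hsoft : IsSoft p (E.subgroupOf K) := by
    refine ⟨IsMulCommutative.of_setLike_mul_comm fun a ha b hb => Subtype.ext (setLike_mul_comm (s := E) ha hb), hEc, ?_⟩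
    have hne : ¬ normalizer (E.subgroupOf K : Set K) ≤ E.subgroupOf K :=
      (normalizerCondition_of_isNilpotent _ (lt_top_iff_ne_top.2 fun h => hlt.not_ge (subgroupOf_eq_top.1 h))).not_ge
    have hsub : (normalizer (E.subgroupOf K : Set K)).map K.subtype ≤ normalizer (E : Set P) := by
      rintro _ ⟨z, hz, rfl⟩
      rw [mem_normalizer_iff_map_conj_eq]
      refine Subgroup.eq_of_le_of_card_ge ?_ (card_map_of_injective (MulAut.conj (z : P)).injective).ge
      rintro _ ⟨e, he, rfl⟩
      exact (mem_normalizer_iff.1 hz ⟨e, hEK he⟩).1 (mem_subgroupOf.2 he)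
    rw [← relIndex_map_map_of_injective _ _ K.subtype_injective, map_subgroupOf_eq_of_le hEK,
      eq_of_relIndex_prime (E := E) (fun e he => mem_map.2 ⟨⟨e, hEK he⟩, le_normalizer (mem_subgroupOf.2 he), rfl⟩) hsub ?_ hE.rel, hE.rel]
    intro h
    exact hne fun z hz => mem_subgroupOf.2 (h (mem_map_of_mem K.subtype hz))
  refine le_antisymm (class_le i K (hP.to_subgroup K) _ α hsoft hi0 hrel hgen) ?_
  -- lower bound
  set U : ℕ → Subgroup K := fun j => E.subgroupOf K ⊔ Subgroup.upperCentralSeries K j with hU
  have hEU : ∀ j, E ≤ (U j).map K.subtype := fun j e he =>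
    ⟨⟨e, hEK he⟩, mem_sup_left (mem_subgroupOf.2 he), rfl⟩
  have hdrop : ∀ j, 1 ≤ j → p ^ i ≤ (U j).index * p ^ (j - 1) := by
    intro j hj
    induction j, hj using Nat.le_induction with
    | base =>
      have h : U 1 = E.subgroupOf K := by
        simp only [hU, Subgroup.upperCentralSeries_one]
        exact sup_eq_left.2 ((center_le_centralizer _).trans hEc)
      rw [h, Nat.sub_self, pow_zero, mul_one]
      exact hrel.ge
    | succ j hj ih =>
      have hle : U j ≤ U (j + 1) := sup_le_sup_left (Subgroup.upperCentralSeries_mono K (Nat.le_succ j)) _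
      have hnorm : U (j + 1) ≤ normalizer (U j : Set K) := by
        refine sup_le (le_sup_left.trans le_normalizer) fun z hz => ?_
        rw [mem_normalizer_iff_map_conj_eq]
        refine Subgroup.eq_of_le_of_card_ge ?_ (card_map_of_injective (MulAut.conj z).injective).ge
        rintro _ ⟨u, hu, rfl⟩
        show z * u * z⁻¹ ∈ U j
        have h := (U j).mul_mem (mem_sup_right (Subgroup.mem_upperCentralSeries_succ_iff.1 hz u)) hu
        rwa [commutatorElement_def, inv_mul_cancel_right] at h
      have hrelj : (U j).relIndex (U (j + 1)) ≤ p := by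
        rw [← relIndex_map_map_of_injective _ _ K.subtype_injective]
        have hsub : (U (j + 1)).map K.subtype ≤ normalizer ((U j).map K.subtype : Set P) := by
          rintro _ ⟨z, hz, rfl⟩
          rw [mem_normalizer_iff_map_conj_eq]
          refine Subgroup.eq_of_le_of_card_ge ?_ (card_map_of_injective (MulAut.conj (z : P)).injective).ge
          rintro _ ⟨_, ⟨u, hu, rfl⟩, rfl⟩
          exact ⟨z * u * z⁻¹, (mem_normalizer_iff.1 (hnorm hz) u).1 hu, rfl⟩
        have h := hstep _ (hEU j) fun h => hK (top_unique (h ▸ map_subtype_le _))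
        refine le_trans (relIndex_le_of_le_right hsub ?_) h.le
        rw [h]; exact hp.out.ne_zero
      have h1 := relIndex_mul_index hle
      rw [← h1] at ih
      have h2 : p ^ (j + 1 - 1) = p * p ^ (j - 1) := by rw [← pow_succ', show j - 1 + 1 = j + 1 - 1 by omega]
      rw [h2]
      calc p ^ i ≤ (U j).relIndex (U (j + 1)) * (U (j + 1)).index * p ^ (j - 1) := ih
        _ ≤ p * (U (j + 1)).index * p ^ (j - 1) :=
          Nat.mul_le_mul_right _ (Nat.mul_le_mul_right _ hrelj)
        _ = _ := by ring
  have hc1 : 1 ≤ Group.nilpotencyClass K := by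
    by_contra h
    haveI : Subsingleton K := nilpotencyClass_zero_iff_subsingleton.1 (by omega)
    exact hlt.not_ge fun x hx => by
      rw [show x = 1 from congrArg Subtype.val (Subsingleton.elim (⟨x, hx⟩ : K) 1)]
      exact E.one_mem
  have h := hdrop _ hc1
  have htop : U (Group.nilpotencyClass K) = ⊤ := by
    simp only [hU, Subgroup.upperCentralSeries_nilpotencyClass, sup_top_eq]
  rw [htop, index_top, one_mul, Nat.pow_le_pow_iff_right hp.out.one_lt] at h
  omega

end Cfsg.Agent.PGroupTower
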